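import Cfsg.Agent.Lib.Linalg.Basic

/-!
# The Sylow `2`-subgroup of `PSL₃(K)`, `K` of characteristic two
-/

set_option autoImplicit false
set_option linter.unusedSectionVars false
set_option linter.style.haveILetI false

open Matrix

namespace Cfsg.Agent.Lib.Sing.L3

variable (K : Type*) [Field K] [Fintype K]

/-- `SL₃`. -/
abbrev SL3 := SpecialLinearGroup (Fin 3) K

variable {K}

theorem entry_mul (x y : SL3 K) (i j : Fin 3) :
    (x * y).1 i j = x.1 i 0 * y.1 0 j + x.1 i 1 * y.1 1 j + x.1 i 2 * y.1 2 j := by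
  show (x.1 * y.1) i j = _
  rw [Matrix.mul_apply, Fin.sum_univ_three]

/-- Upper unitriangular. -/
def IsU (m : SL3 K) : Prop :=
  m.1 0 0 = 1 ∧ m.1 1 1 = 1 ∧ m.1 2 2 = 1 ∧ m.1 1 0 = 0 ∧ m.1 2 0 = 0 ∧ m.1 2 1 = 0

theorem IsU.mul {x y : SL3 K} (hx : IsU x) (hy : IsU y) : IsU (x * y) := by
  obtain ⟨a1, a2, a3, a4, a5, a6⟩ := hx
  obtain ⟨b1, b2, b3, b4, b5, b6⟩ := hy
  refine ⟨?_, ?_, ?_, ?_, ?_, ?_⟩ <;> rw [entry_mul] <;>
    simp only [a1, a2, a3, a4, a5, a6, b1, b2, b3, b4, b5, b6] <;> simp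

theorem IsU.one : IsU (1 : SL3 K) := by
  refine ⟨?_, ?_, ?_, ?_, ?_, ?_⟩ <;> simp

variable (K)

/-- The upper unitriangular subgroup. -/
def Hs : Subgroup (SL3 K) where
  carrier := {m | IsU m}
  mul_mem' := fun hx hy => IsU.mul hx hy
  one_mem' := IsU.one
  inv_mem' := by
    intro x hx
    have hpos := orderOf_pos x
    have e : x⁻¹ = x ^ (orderOf x - 1) := by
      apply inv_eq_of_mul_eq_one_right
      rw [← pow_succ', Nat.sub_add_cancel hpos, pow_orderOf_eq_one]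
    show IsU x⁻¹
    rw [e]
    generalize orderOf x - 1 = k
    induction k with
    | zero => simpa using IsU.one
    | succ k ih =>
      rw [pow_succ]
      exact IsU.mul ih hx

variable {K}

/-- Coordinates. -/
def U (x : Hs K) : K := x.1.1 0 1
/-- Coordinates. -/
def V (x : Hs K) : K := x.1.1 1 2
/-- Coordinates. -/
def T (x : Hs K) : K := x.1.1 0 2

theorem U_mul (x y : Hs K) : U (x * y) = U x + U y := by
  obtain ⟨a1, a2, a3, a4, a5, a6⟩ := x.2
  obtain ⟨b1, b2, b3, b4, b5, b6⟩ := y.2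
  show (x.1 * y.1).1 0 1 = x.1.1 0 1 + y.1.1 0 1
  rw [entry_mul, a1, b2, b6]
  ring

theorem V_mul (x y : Hs K) : V (x * y) = V x + V y := by
  obtain ⟨a1, a2, a3, a4, a5, a6⟩ := x.2
  obtain ⟨b1, b2, b3, b4, b5, b6⟩ := y.2
  show (x.1 * y.1).1 1 2 = x.1.1 1 2 + y.1.1 1 2
  rw [entry_mul, a4, a2, b3]
  ring

theorem T_mul (x y : Hs K) : T (x * y) = T x + T y + U x * V y := by
  obtain ⟨a1, a2, a3, a4, a5, a6⟩ := x.2
  obtain ⟨b1, b2, b3, b4, b5, b6⟩ := y.2
  show (x.1 * y.1).1 0 2 = x.1.1 0 2 + y.1.1 0 2 + x.1.1 0 1 * y.1.1 1 2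
  rw [entry_mul, a1, b3]
  ring

theorem ext_coord {x y : Hs K} (h1 : U x = U y) (h2 : V x = V y) (h3 : T x = T y) : x = y := by
  obtain ⟨a1, a2, a3, a4, a5, a6⟩ := x.2
  obtain ⟨b1, b2, b3, b4, b5, b6⟩ := y.2
  apply Subtype.ext
  apply Subtype.ext
  ext i j
  fin_cases i <;> fin_cases j
  · show x.1.1 0 0 = y.1.1 0 0
    rw [a1, b1]
  · exact h1
  · exact h3
  · show x.1.1 1 0 = y.1.1 1 0
    rw [a4, b4]
  · show x.1.1 1 1 = y.1.1 1 1
    rw [a2, b2]
  · exact h2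
  · show x.1.1 2 0 = y.1.1 2 0
    rw [a5, b5]
  · show x.1.1 2 1 = y.1.1 2 1
    rw [a6, b6]
  · show x.1.1 2 2 = y.1.1 2 2
    rw [a3, b3]

/-- An element of the group. -/
def mk3 (a b t : K) : SL3 K :=
  ⟨!![1, a, t; 0, 1, b; 0, 0, 1], by
    rw [Matrix.det_fin_three]
    simp⟩

theorem mk3_mem (a b t : K) : mk3 a b t ∈ Hs K := by
  refine ⟨?_, ?_, ?_, ?_, ?_, ?_⟩ <;> simp [mk3]

theorem exists_coord (a b t : K) : ∃ x : Hs K, U x = a ∧ V x = b ∧ T x = t :=
  ⟨⟨mk3 a b t, mk3_mem a b t⟩, by simp [U, mk3], by simp [V, mk3], by simp [T, mk3]⟩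

theorem U_one : U (1 : Hs K) = 0 := by simp [U]
theorem V_one : V (1 : Hs K) = 0 := by simp [V]
theorem T_one : T (1 : Hs K) = 0 := by simp [T]

theorem eq_one_of {x : Hs K} (h1 : U x = 0) (h2 : V x = 0) (h3 : T x = 0) : x = 1 :=
  ext_coord (by rw [h1, U_one]) (by rw [h2, V_one]) (by rw [h3, T_one])

theorem central_of {x : Hs K} (h1 : U x = 0) (h2 : V x = 0) (y : Hs K) : x * y = y * x := by
  apply ext_coord
  · rw [U_mul, U_mul, add_comm]
  · rw [V_mul, V_mul, add_comm]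
  · rw [T_mul, T_mul, h1, h2]
    ring

theorem card_Hs : Nat.card (Hs K) = Fintype.card K ^ 3 := by
  classical
  have e : Hs K ≃ K × K × K :=
    { toFun := fun x => (U x, V x, T x)
      invFun := fun p => ⟨mk3 p.1 p.2.1 p.2.2, mk3_mem _ _ _⟩
      left_inv := fun x => ext_coord (by simp [U, mk3]) (by simp [V, mk3]) (by simp [T, mk3])
      right_inv := fun p => by
        rcases p with ⟨a, b, t⟩
        simp [U, V, T, mk3] }
  rw [Nat.card_congr e, Nat.card_prod, Nat.card_prod, Nat.card_eq_fintype_card]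
  ring

theorem card_SL3 (m : ℕ) (hq : Fintype.card K = m + 1) :
    Nat.card (SL3 K) = m ^ 2 * (m + 1) ^ 3 * (m + 2) * ((m + 1) ^ 2 + (m + 1) + 1) := by
  classical
  have h1 := Cfsg.Agent.Lib.Linalg.Basic.card_GL_eq_mul_card_SL (F := K) (ι := Fin 3)
  have h3 := Matrix.card_GL_field (𝔽 := K) 3
  rw [h3, Fin.prod_univ_three, Nat.card_eq_fintype_card (α := K), hq] at h1
  simp only [Fin.val_zero, Fin.val_one, Fin.val_two, pow_zero, pow_one] at h1
  have e1 : (m + 1) ^ 3 - 1 = m * ((m + 1) ^ 2 + (m + 1) + 1) := by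
    apply Nat.sub_eq_of_eq_add
    ring
  have e2 : (m + 1) ^ 3 - (m + 1) = (m + 1) * (m * (m + 2)) := by
    apply Nat.sub_eq_of_eq_add
    ring
  have e3 : (m + 1) ^ 3 - (m + 1) ^ 2 = (m + 1) ^ 2 * m := by
    apply Nat.sub_eq_of_eq_add
    ring
  rw [e1, e2, e3] at h1
  have hm : 0 < m := by
    have := Fintype.one_lt_card (α := K)
    omega
  simp only [Nat.add_sub_cancel] at h1
  apply Nat.eq_of_mul_eq_mul_left hm
  rw [← h1]
  ring

/-- The image of `Hs K` is a Sylow subgroup of `PSL₃(K)`. -/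
theorem exists_sylow {n : ℕ} (hn : 1 ≤ n) (hq : Fintype.card K = 2 ^ n) :
    ∃ S : Sylow 2 (ProjectiveSpecialLinearGroup (Fin 3) K), Nonempty (Hs K ≃* S) := by
  classical
  haveI : Fact (Nat.Prime 2) := ⟨Nat.prime_two⟩
  let π : SL3 K →* ProjectiveSpecialLinearGroup (Fin 3) K := QuotientGroup.mk' _
  let φ : Hs K →* ProjectiveSpecialLinearGroup (Fin 3) K := π.comp (Hs K).subtype
  have hinj : Function.Injective φ := by
    rw [injective_iff_map_eq_one]
    rintro ⟨z, hz⟩ h1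
    have h2 : z ∈ Subgroup.center (SL3 K) := (QuotientGroup.eq_one_iff z).mp h1
    rw [Matrix.SpecialLinearGroup.mem_center_iff] at h2
    obtain ⟨r, -, hr⟩ := h2
    obtain ⟨a1, a2, a3, a4, a5, a6⟩ := hz
    have hr1 : r = 1 := by
      have := congrFun (congrFun hr 0) 0
      rw [a1] at this
      simpa using this
    apply Subtype.ext
    apply Subtype.ext
    show z.1 = 1
    rw [← hr, hr1]
    simp
  let S₀ := φ.range
  have e0 : Hs K ≃* S₀ := MonoidHom.ofInjective hinj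
  have hcard : Nat.card S₀ = (2 ^ n) ^ 3 := by
    rw [← Nat.card_congr e0.toEquiv, card_Hs, hq]
  have hp : IsPGroup 2 S₀ := IsPGroup.of_card (n := n * 3) (by rw [hcard, pow_mul])
  obtain ⟨m, hm⟩ : ∃ m, 2 ^ n = m + 1 := ⟨2 ^ n - 1, by
    have : 0 < 2 ^ n := by positivity
    omega⟩
  have hmodd : Odd m := by
    have h1 : Even (2 ^ n) := (Nat.even_pow' (by omega)).2 even_two
    rw [hm] at h1
    exact Nat.not_even_iff_odd.mp (Nat.even_add_one.mp h1)
  have hidx : ¬ 2 ∣ S₀.index := by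
    intro h2
    have h3 := S₀.card_mul_index
    have h4 := Cfsg.Agent.Lib.Linalg.Basic.card_PSL_mul (F := K) (ι := Fin 3)
    have h5 := card_SL3 (K := K) m (by rw [hq, hm])
    rw [h5, ← h3, hcard, hm] at h4
    set d := Nat.gcd (Fintype.card (Fin 3)) (Nat.card K - 1) with hd
    have h6 : S₀.index * d = m ^ 2 * (m + 2) * ((m + 1) ^ 2 + (m + 1) + 1) := by
      have hpos : 0 < (m + 1) ^ 3 := by positivity
      apply Nat.eq_of_mul_eq_mul_left hpos
      rw [← mul_assoc, h4]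
      ring
    have h7 : Odd (m ^ 2 * (m + 2) * ((m + 1) ^ 2 + (m + 1) + 1)) := by
      apply Odd.mul (Odd.mul (hmodd.pow) (hmodd.add_even even_two))
      have h8 : Even (m + 1) := hmodd.add_one
      have h9 : Even ((m + 1) ^ 2) := h8.pow_of_ne_zero (by norm_num)
      exact (h9.add h8).add_one
    rw [← h6] at h7
    have h8 : Even (S₀.index * d) := (even_iff_two_dvd.2 h2).mul_right d
    exact (Nat.not_even_iff_odd.2 h7) h8
  refine ⟨hp.toSylow hidx, ⟨e0.trans (MulEquiv.subgroupCongr ?_)⟩⟩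
  exact (IsPGroup.toSylow_coe hp hidx).symm

end Cfsg.Agent.Lib.Sing.L3
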